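import Groth.Agent.FrobSchLib.Basic
import Groth.Agent.HTopAwn.Scheme
import Groth.Agent.H84RootTower.Scheme
import Groth.Agent.MorLib.UnivHomeo

/-!
# Iterated absolute Frobenius
-/

universe u

open CategoryTheory Limits AlgebraicGeometry

set_option backward.isDefEq.respectTransparency.types false

namespace Groth.Agent.H84FrobPow

variable {p : ℕ} [hp : Fact p.Prime] (X : Scheme.{u}) [FrobSch.IsCharP X p]

/-- The `n`-th power of the absolute Frobenius. -/
noncomputable abbrev pw (n : ℕ) : X ⟶ X := (fun g : X ⟶ X => g ≫ FrobSch.frob X p)^[n] (𝟙 X)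

theorem pw_succ (n : ℕ) : pw (p := p) X (n + 1) = pw (p := p) X n ≫ FrobSch.frob X p :=
  Function.iterate_succ_apply' _ _ _

theorem pw_zero : pw (p := p) X 0 = 𝟙 X := rfl

theorem pw_appTop (n : ℕ) (s : Γ(X, ⊤)) : (pw (p := p) X n).appTop s = s ^ (p ^ n) := by
  induction n generalizing s with
  | zero => simp [pw_zero]
  | succ n ih =>
    rw [pw_succ]
    show (pw (p := p) X n).appTop ((FrobSch.frob X p).appTop s) = _
    rw [FrobSch.frob_appTop, map_pow, ih, ← pow_mul, pow_succ]

theorem pw_apply (n : ℕ) (x : X) : pw (p := p) X n x = x := by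
  induction n with
  | zero => rfl
  | succ n ih => rw [pw_succ, Scheme.Hom.comp_apply, ih]; rfl

variable {X} {Y : Scheme.{u}} [FrobSch.IsCharP Y p]

theorem pw_comp (f : X ⟶ Y) (n : ℕ) : pw (p := p) X n ≫ f = f ≫ pw (p := p) Y n := by
  induction n with
  | zero => simp [pw_zero]
  | succ n ih => rw [pw_succ, pw_succ, Category.assoc, FrobSch.frob_comp, ← Category.assoc, ih, Category.assoc]

variable (X)

theorem isUnivHomeo_pw (n : ℕ) : FlatMor.IsUnivHomeo (pw (p := p) X n) := by
  induction n with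
  | zero =>
    rw [pw_zero]
    exact MorLib.isUnivHomeo_of_universallyClosed (𝟙 X)
  | succ n ih =>
    rw [pw_succ]
    obtain ⟨h1, h2, h3⟩ := MorLib.isUnivHomeo_iff.1 ih
    obtain ⟨g1, g2, g3⟩ := MorLib.isUnivHomeo_iff.1 (FrobSchLib.isUnivHomeo_frob p X)
    exact MorLib.isUnivHomeo_iff.2 ⟨inferInstance, MorphismProperty.comp_mem _ _ _ h2 g2, inferInstance⟩

/-- On an affine scheme the iterated Frobenius is the spectrum of the power map. -/
theorem pw_Spec (R : CommRingCat.{u}) [FrobSch.IsCharP (Spec R) p] (φ : R ⟶ R) (n : ℕ) (hφ : ∀ r : R, φ r = r ^ (p ^ n)) :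
    pw (p := p) (Spec R) n = Spec.map φ := by
  refine ext_of_isAffine ?_
  ext x
  rw [pw_appTop]
  apply (Scheme.ΓSpecIso R).commRingCatIsoToRingEquiv.injective
  rw [map_pow]
  show _ = (Scheme.ΓSpecIso R).hom ((Spec.map φ).appTop x)
  rw [← hφ]
  exact (ConcreteCategory.congr_hom (Scheme.ΓSpecIso_naturality φ) x).symm

theorem isIso_pw_perfect (k : Type u) [Field k] [CharP k p] [PerfectField k]
    [FrobSch.IsCharP (Spec (CommRingCat.of k)) p] (n : ℕ) : IsIso (pw (p := p) (Spec (CommRingCat.of k)) n) := by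
  haveI : ExpChar k p := .prime hp.out
  haveI : PerfectRing k p := PerfectField.toPerfectRing p
  have : IsIso (FrobSch.frob (Spec (CommRingCat.of k)) p) := by
    rw [H84RootTower.frob_Spec]
    haveI : IsIso (CommRingCat.ofHom (frobenius k p)) :=
      (ConcreteCategory.isIso_iff_bijective _).2 (PerfectRing.bijective_frobenius)
    infer_instance
  induction n with
  | zero => rw [pw_zero]; infer_instance
  | succ n ih => rw [pw_succ]; infer_instance

end Groth.Agent.H84FrobPow
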