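import Groth.Agent.H84FrobPow.Basic
import Groth.Agent.AbSchX.CubeBase.InvDescend
import Groth.Agent.InvX.Tensor
import Groth.Agent.InvX.GenLocusPull

/-!
# Pullback of invertible modules along powers of the Frobenius
-/

universe u

open CategoryTheory Limits AlgebraicGeometry Opposite

set_option backward.isDefEq.respectTransparency false
set_option backward.isDefEq.respectTransparency.types false

namespace Groth.Agent.H84FrobPow

open Groth.Agent.AModX Groth.Agent.InvX

variable {X : Scheme.{u}} {L : X.Modules}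

/-- Powers of a section. -/
noncomputable def powElt {U : X.Opens} (a : Γ(L, U)) : ∀ n : ℕ, Γ(CohB1.tensorPow L n, U)
  | 0 => show Γ(Coh.structureModule X, U) from (1 : Γ(X, U))
  | n + 1 => tmul (powElt a n) a

theorem res_powElt {U V : X.Opens} (h : V ≤ U) (a : Γ(L, U)) : ∀ n : ℕ,
    res (CohB1.tensorPow L n) h (powElt a n) = powElt (res L h a) n
  | 0 => map_one (resR h)
  | n + 1 => by
    show res _ h (tmul (powElt a n) a) = tmul _ _
    exact (res_tmul h _ _).trans (by rw [res_powElt h a n])

theorem powElt_smul {U : X.Opens} (r : Γ(X, U)) (a : Γ(L, U)) : ∀ n : ℕ,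
    powElt (r • a) n = r ^ n • powElt a n
  | 0 => ((congrArg (· • _) (pow_zero r)).trans (one_smul _ _)).symm
  | n + 1 => by
    show tmul (powElt (r • a) n) (r • a) = _ • tmul (powElt a n) a
    rw [powElt_smul r a n, tmul_smul_left, tmul_smul_right, smul_smul, pow_succ]

theorem isFrame_powElt {U : X.Opens} {a : Γ(L, U)} (ha : IsFrame a) : ∀ n : ℕ, IsFrame (powElt a n)
  | 0 => isFrame_one U
  | n + 1 => isFrame_tmul (isFrame_powElt ha n) ha

variable {p : ℕ} [hp : Fact p.Prime] [FrobSch.IsCharP X p]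

theorem pw_le (n : ℕ) (U : X.Opens) : pw (p := p) X n ⁻¹ᵁ U ≤ U := fun x hx => by
  have h : pw (p := p) X n x ∈ U := hx
  rwa [pw_apply] at h

theorem le_pw (n : ℕ) (U : X.Opens) : U ≤ pw (p := p) X n ⁻¹ᵁ U := fun x hx => by
  show pw (p := p) X n x ∈ U
  rwa [pw_apply]

theorem pw_app (n : ℕ) (U : X.Opens) (s : Γ(X, U)) :
    (pw (p := p) X n).app U s = resR (pw_le n U) s ^ (p ^ n) := by
  induction n generalizing s with
  | zero =>
    show s = resR _ s ^ p ^ 0
    rw [pow_zero, pow_one]
    exact (resR_self s).symm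
  | succ n ih =>
    suffices key : ∀ (f : X ⟶ X) (h : f ⁻¹ᵁ U ≤ U), f = pw (p := p) X n ≫ FrobSch.frob X p →
        f.app U s = resR h s ^ p ^ (n + 1) from key _ _ (pw_succ X n)
    rintro f h rfl
    show (pw (p := p) X n).app U ((FrobSch.frob X p).app U s) = _
    rw [FrobSch.frob_app, map_pow, ih, ← pow_mul, ← pow_succ]
    rfl

/-- Pulling back along a power of the Frobenius raises an invertible module to the corresponding power. -/
theorem nonempty_pullback_iso (hL : PicF.IsInvertible L) (n : ℕ) :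
    Nonempty ((Scheme.Modules.pullback (pw (p := p) X n)).obj L ≅ CohB1.tensorPow L (p ^ n)) := by
  choose U hxU e he using fun x : X => exists_frame hL x
  let f := pw (p := p) X n
  refine AbSchX.CubeBase.iso_of_frames (ι := X) (fun x => f ⁻¹ᵁ U x) (fun x => ⟨x, le_pw n _ (hxU x)⟩)
    (fun x => pullElt f (e x)) (fun x => isFrame_pullElt f (he x))
    (fun x => res _ (pw_le n (U x)) (powElt (e x) (p ^ n))) (fun x => (isFrame_powElt (he x) _).res _) fun a b => ?_
  obtain ⟨g, hg⟩ := ((he b).res (inf_le_right : U a ⊓ U b ≤ U b)).exists_coord le_rfl (res L inf_le_left (e a))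
  rw [res_self] at hg
  refine ⟨f.app (U a ⊓ U b) g, ?_, ?_⟩
  · have hl : U a ⊓ U b ≤ U a := inf_le_left
    have hr : U a ⊓ U b ≤ U b := inf_le_right
    show res _ (f.preimage_mono hl) (pullElt f (e a)) = f.app (U a ⊓ U b) g • (id (res _ (f.preimage_mono hr) (pullElt f (e b))) : Γ((Scheme.Modules.pullback f).obj L, f ⁻¹ᵁ (U a ⊓ U b)))
    simp only [id_eq]
    rw [res_pullElt f hl, res_pullElt f hr]
    exact (congrArg (pullElt f) hg).trans (pullElt_smul f g _)
  · have h2 := congrArg (fun z => res _ (pw_le (p := p) n (U a ⊓ U b)) (powElt z (p ^ n))) hg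
    simp only [powElt_smul, res_smul, ← res_powElt, res_res] at h2
    rw [res_res, res_res]
    refine h2.trans ?_
    rw [map_pow, ← pw_app]
    rfl

end Groth.Agent.H84FrobPow
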